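import Cfsg.Agent.Schreier.ClassPSL
import Cfsg.Agent.ClassicalGeometry.AutPSL.Main
import Cfsg.Agent.Blocks.Deflate
import Cfsg.Agent.Characters.Core
import Cfsg.Agent.Blocks.Basic
import Cfsg.Agent.H993.OC.Row
import Cfsg.Agent.H993.OC.Abs
import Cfsg.Agent.H665.Psl2Char
import Cfsg.Agent.Characters.Brauer
import Cfsg.Agent.H699.CusGBase
import Cfsg.Agent.H328.Gow.CusRat
import Cfsg.Agent.Characters.Galois
import Cfsg.Agent.Blocks.Central
import Cfsg.Agent.H417.TI.Psl

/-!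
# S4891, PSL₂(q) in defining characteristic (helper936, task 4727)

* `fpart p : MulAut PSL₂(F) →* (F ≃+* F)`, `exists_cj` : `α = lift (cj A * fld (fpart p α))`;
* `prin_wt` : the principal series, if the fixed field of the field parts of `A` has at least `7` elements;
* `disc_wt` : the discrete series character of order `3`, `q ≡ 2` modulo `3`;
* `second` : the second alternative, `q = 3 ^ 3 ^ a`;
* **`row_psl2`** : `Row p X` for `X ≃* PSL₂(K)`, `K` of characteristic `p ≠ 2`.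
-/

set_option autoImplicit false
set_option linter.unusedSectionVars false

open Matrix Cfsg
open Cfsg.Agent.ClassicalGeometry.AutPSL.Root Cfsg.Agent.ClassicalGeometry.AutPSL.Auto
  Cfsg.Agent.ClassicalGeometry.AutPSL.Main

namespace Cfsg.Agent.H936.RB

universe u

section field

variable {F : Type u} [Field F] [Finite F] (p : ℕ) [Fact p.Prime] [CharP F p]

local notation "PSL₂" => Matrix.ProjectiveSpecialLinearGroup (Fin 2) F

include p in
theorem exists_cj' (α : MulAut PSL₂) : ∃ (σ : F ≃+* F) (A : GL (Fin 2) F), α = lift (cj A * fld σ) := by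
  have := Fintype.ofFinite F
  obtain ⟨A, σ, h⟩ := surj_two p α
  exact ⟨σ, A, h⟩

theorem unique_fld {A B : GL (Fin 2) F} {σ τ : F ≃+* F} (h : (lift (cj A * fld σ) : MulAut PSL₂) =
    lift (cj B * fld τ)) : σ = τ := by
  have h1 : (lift (cj (B⁻¹ * A) * fld σ) : MulAut PSL₂) = lift (fld τ) := by
    rw [map_mul cj, map_inv, mul_assoc, map_mul, h, ← map_mul, ← mul_assoc, inv_mul_cancel, one_mul]
  exact (injective_aux h1).2

/-- the field automorphism of an automorphism of `PSL₂(F)` -/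
noncomputable def fpart : MulAut PSL₂ →* (F ≃+* F) :=
  MonoidHom.mk' (fun α => (exists_cj' p α).choose) (by
    intro α β
    obtain ⟨A, hA⟩ := (exists_cj' p α).choose_spec
    obtain ⟨B, hB⟩ := (exists_cj' p β).choose_spec
    obtain ⟨C, hC⟩ := (exists_cj' p (α * β)).choose_spec
    refine unique_fld (A := C) (B := A * Matrix.GeneralLinearGroup.map
      ((exists_cj' p α).choose : F →+* F) B) (hC.symm.trans ?_)
    conv_lhs => rw [hA, hB]
    rw [← map_mul]
    congr 1
    rw [map_mul cj, map_mul fld, mul_assoc (cj A), ← mul_assoc (fld _) (cj B), Schreier.ClassPSL.fld_mul_cj]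
    simp only [mul_assoc])

theorem exists_cj (α : MulAut PSL₂) : ∃ A : GL (Fin 2) F, α = lift (cj A * fld (fpart p α)) :=
  (exists_cj' p α).choose_spec

theorem fpart_eq {α : MulAut PSL₂} {A : GL (Fin 2) F} {σ : F ≃+* F} (h : α = lift (cj A * fld σ)) :
    fpart p α = σ := by
  obtain ⟨B, hB⟩ := exists_cj p α
  exact unique_fld (hB.symm.trans h)

theorem conj_pr (s : Matrix.SpecialLinearGroup (Fin 2) F) :
    (MulAut.conj (pr s) : MulAut PSL₂) = lift (cj (s : GL (Fin 2) F) * fld 1) := by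
  rw [map_one, mul_one]
  apply MulEquiv.ext
  intro x
  obtain ⟨x, rfl⟩ := pr_surjective x
  rw [lift_pr, MulAut.conj_apply, ← map_inv, ← map_mul, ← map_mul]
  congr 1

theorem fpart_conj (s : PSL₂) : fpart p (MulAut.conj s) = 1 := by
  obtain ⟨s, rfl⟩ := pr_surjective s
  exact fpart_eq p (conj_pr s)

end field

section fix

variable {F : Type u} [Field F] [Finite F] (Sg : Subgroup (F ≃+* F))

/-- the fixed field -/
abbrev fixF : Subfield F := FixedPoints.subfield Sg F

theorem mem_fixF {x : F} : x ∈ fixF Sg ↔ ∀ σ ∈ Sg, σ x = x := by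
  constructor
  · intro h σ hσ
    exact h ⟨σ, hσ⟩
  · intro h σ
    exact h σ.1 σ.2

theorem card_fixF : Nat.card F = Nat.card (fixF Sg) ^ Nat.card Sg := by
  classical
  have : Finite (F ≃+* F) := Finite.of_injective (fun σ : F ≃+* F => (σ : F → F)) DFunLike.coe_injective
  have := Fintype.ofFinite Sg
  rw [Module.natCard_eq_pow_finrank (K := fixF Sg) (V := F), FixedPoints.finrank_eq_card, Nat.card_eq_fintype_card (α := Sg)]

theorem pow_mem_fixF (x : F) : x ^ ((Nat.card F - 1) / (Nat.card (fixF Sg) - 1)) ∈ fixF Sg := by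
  have : Finite (fixF Sg) := inferInstance
  have h := FiniteField.algebraMap_norm_eq_pow (K := fixF Sg) (K' := F) (x := x)
  rw [← h]
  exact (Algebra.norm (fixF Sg) x).2

end fix

end Cfsg.Agent.H936.RB

namespace Cfsg.Agent.H936.RB

open Cfsg.Agent.H665.Psl2Char Cfsg.Agent.H993.OC Cfsg.Agent.H145.BR
open Cfsg.Agent.ClassicalGeometry.SL2Line (sl_mul_apply sl_one_apply mk mk_00 mk_01 mk_10 mk_11 sl_ext)

universe u

section sl

variable {F : Type u} [Field F] [Finite F]

local notation "SL₂" => Matrix.SpecialLinearGroup (Fin 2) F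
local notation "PSL₂" => Matrix.ProjectiveSpecialLinearGroup (Fin 2) F

/-- characters of `SL₂(F)` trivial on the centre -/
theorem descend {Θ : SL₂ → ℂ} (hΘ : IsIrrCharacter SL₂ Θ) (hz : ∀ z ∈ Subgroup.center SL₂, Θ z = Θ 1) :
    ∃ θ : PSL₂ → ℂ, IsIrrCharacter PSL₂ θ ∧ ∀ g : SL₂, θ (pr g) = Θ g := by
  classical
  have := Fintype.ofFinite (Subgroup.center SL₂)
  have h1 : ∑ n : Subgroup.center SL₂, Θ n ≠ 0 := by
    rw [Finset.sum_congr rfl fun n _ => hz n.1 n.2, Finset.sum_const, nsmul_eq_mul]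
    refine mul_ne_zero (Nat.cast_ne_zero.2 ?_) ?_
    · rw [Finset.card_univ]
      exact Fintype.card_ne_zero
    · exact Blocks.Basic.irr_one_ne_zero hΘ
  obtain ⟨χ, hχ⟩ := Blocks.Deflate.exists_deflation (Subgroup.center SL₂) Θ hΘ h1
  exact ⟨χ.1, χ.2, fun g => by rw [hχ]; rfl⟩

/-- the principal series -/
theorem prin_irr [Fintype SL₂] (l : Fˣ →* ℂˣ) (d : Fˣ) (hl : l (d ^ 2) ≠ 1) :
    IsIrrCharacter SL₂ (indFun (borel F) (fun t => ((l.comp diag) t : ℂ))) := by
  classical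
  have : Fintype (borel F) := Fintype.ofFinite _
  apply Cfsg.Agent.CharactersDeep.MackeyLinear.isIrrCharacter_indFun
  intro x hx
  have hc : x 1 0 ≠ 0 := hx
  -- the element of the Borel subgroup fixing the line of `x e₁`
  set y : F := (((d⁻¹ : Fˣ) : F) - (d : F)) * x 0 0 / x 1 0 with hy
  set t : SL₂ := (upp d y : SL₂) with ht
  have htB : t ∈ borel F := (upp d y).2
  have hdet : x 0 0 * x 1 1 - x 0 1 * x 1 0 = 1 := by
    have := x.det_coe
    rwa [Matrix.det_fin_two] at this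
  obtain ⟨i00, i01, i10, i11⟩ := sl_inv_entries F x
  have t00 : t 0 0 = (d : F) := rfl
  have t01 : t 0 1 = y := rfl
  have t10 : t 1 0 = 0 := rfl
  have t11 : t 1 1 = ((d⁻¹ : Fˣ) : F) := rfl
  have hyc : y * x 1 0 = (((d⁻¹ : Fˣ) : F) - (d : F)) * x 0 0 := by
    rw [hy]; field_simp
  have hconj00 : (x⁻¹ * t * x) 0 0 = ((d⁻¹ : Fˣ) : F) := by
    rw [sl_mul_apply, sl_mul_apply, sl_mul_apply, i00, i01, t00, t01, t10, t11]
    linear_combination x 1 1 * hyc + ((d⁻¹ : Fˣ) : F) * hdet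
  have hconj10 : (x⁻¹ * t * x) 1 0 = 0 := by
    rw [sl_mul_apply, sl_mul_apply, sl_mul_apply, i10, i11, t00, t01, t10, t11]
    linear_combination (- x 1 0) * hyc
  refine ⟨⟨t, htB⟩, mem_borel.2 hconj10, ?_⟩
  intro heq
  have h1 : diag (⟨t, htB⟩ : borel F) = d := Units.ext rfl
  have h2 : diag (⟨x⁻¹ * t * x, mem_borel.2 hconj10⟩ : borel F) = d⁻¹ := Units.ext hconj00
  rw [MonoidHom.comp_apply, MonoidHom.comp_apply, h1, h2, map_inv] at heq
  apply hl
  rw [pow_two, map_mul]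
  nth_rewrite 1 [heq]
  exact inv_mul_cancel _

/-- conjugation by an element of `SL₂` -/
theorem cj_sl (s g : SL₂) : cj (s : GL (Fin 2) F) g = s * g * s⁻¹ := by
  apply Subtype.ext
  rw [coe_cj]
  rfl

theorem exists_sl_diag (M : GL (Fin 2) F) : ∃ (s : SL₂) (D : GL (Fin 2) F), M = (s : GL (Fin 2) F) * D ∧
    (D : Matrix (Fin 2) (Fin 2) F) 1 0 = 0 ∧ (D : Matrix (Fin 2) (Fin 2) F) 0 0 ≠ 0 := by
  set d : F := (M : Matrix (Fin 2) (Fin 2) F).det with hd
  have hd0 : d ≠ 0 := by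
    have := M.isUnit.map (Matrix.detMonoidHom (n := Fin 2) (R := F))
    exact this.ne_zero
  have h1 : (!![d, 0; 0, 1] : Matrix (Fin 2) (Fin 2) F).det ≠ 0 := by
    rw [Matrix.det_fin_two_of, mul_one, mul_zero, sub_zero]
    exact hd0
  let D : GL (Fin 2) F := Matrix.GeneralLinearGroup.mkOfDetNeZero !![d, 0; 0, 1] h1
  have hD : (D : Matrix (Fin 2) (Fin 2) F) = !![d, 0; 0, 1] := rfl
  have hDd : (D : Matrix (Fin 2) (Fin 2) F).det = d := by
    rw [hD, Matrix.det_fin_two_of, mul_one, mul_zero, sub_zero]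
  have h2 : ((M * D⁻¹ : GL (Fin 2) F) : Matrix (Fin 2) (Fin 2) F).det = 1 := by
    have h3 : ((M * D⁻¹ : GL (Fin 2) F) : Matrix (Fin 2) (Fin 2) F) * (D : Matrix (Fin 2) (Fin 2) F) = M := by
      rw [← Units.val_mul, inv_mul_cancel_right]
    have h4 := congrArg Matrix.det h3
    rw [Matrix.det_mul, hDd, ← hd] at h4
    exact mul_right_cancel₀ hd0 (h4.trans (one_mul d).symm)
  let s : SL₂ := ⟨_, h2⟩
  refine ⟨s, D, ?_, rfl, hd0⟩
  have h5 : (s : GL (Fin 2) F) = M * D⁻¹ := Units.ext rfl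
  rw [h5, inv_mul_cancel_right]

/-- conjugation by an upper triangular matrix -/
theorem cj_entries {D : GL (Fin 2) F} (h10 : (D : Matrix (Fin 2) (Fin 2) F) 1 0 = 0)
    (h00 : (D : Matrix (Fin 2) (Fin 2) F) 0 0 ≠ 0) (g : SL₂) :
    (cj D g 1 0 = 0 ↔ g 1 0 = 0) ∧ (g 1 0 = 0 → cj D g 0 0 = g 0 0) := by
  have h1 : (cj D g : Matrix (Fin 2) (Fin 2) F) * (D : Matrix (Fin 2) (Fin 2) F) =
      (D : Matrix (Fin 2) (Fin 2) F) * (g : Matrix (Fin 2) (Fin 2) F) := by
    rw [coe_cj, mul_assoc, ← Units.val_mul, inv_mul_cancel, Units.val_one, mul_one]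
  have e10 := congrFun (congrFun h1 1) 0
  have e00 := congrFun (congrFun h1 0) 0
  rw [Matrix.mul_apply, Matrix.mul_apply, Fin.sum_univ_two, Fin.sum_univ_two, h10, mul_zero, add_zero, zero_mul,
    zero_add] at e10
  rw [Matrix.mul_apply, Matrix.mul_apply, Fin.sum_univ_two, Fin.sum_univ_two, h10, mul_zero, add_zero] at e00
  have h11 : (D : Matrix (Fin 2) (Fin 2) F) 1 1 ≠ 0 := by
    intro h
    have h2 := D.isUnit.map (Matrix.detMonoidHom (n := Fin 2) (R := F))
    apply h2.ne_zero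
    show (D : Matrix (Fin 2) (Fin 2) F).det = 0
    rw [Matrix.det_fin_two, h, h10, mul_zero, mul_zero, sub_zero]
  constructor
  · constructor
    · intro h
      have h3 : (cj D g : Matrix (Fin 2) (Fin 2) F) 1 0 = 0 := h
      rw [h3, zero_mul] at e10
      exact (mul_eq_zero.1 e10.symm).resolve_left h11
    · intro h
      have h3 : (g : Matrix (Fin 2) (Fin 2) F) 1 0 = 0 := h
      rw [h3, mul_zero] at e10
      exact (mul_eq_zero.1 e10).resolve_right h00
  · intro h
    have h3 : (g : Matrix (Fin 2) (Fin 2) F) 1 0 = 0 := h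
    rw [h3, mul_zero, add_zero, mul_comm] at e00
    exact mul_left_cancel₀ h00 e00

/-- **invariance of the principal series** -/
theorem prin_inv [Fintype SL₂] (l : Fˣ →* ℂˣ) (M : GL (Fin 2) F) (σ : F ≃+* F)
    (hl : ∀ c : Fˣ, l (Units.map (σ : F →* F) c) = l c) (g : SL₂) :
    indFun (borel F) (fun t => ((l.comp diag) t : ℂ)) (cj M (fld σ g)) =
      indFun (borel F) (fun t => ((l.comp diag) t : ℂ)) g := by
  classical
  obtain ⟨s, D, rfl, h10, h00⟩ := exists_sl_diag M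
  have hcl : ∀ h k : borel F, ((l.comp diag) (h * k * h⁻¹) : ℂ) = (l.comp diag) k := fun h k => by
    rw [map_mul, map_mul, map_inv, mul_comm ((l.comp diag) h), mul_inv_cancel_right]
  have h1 : indFun (borel F) (fun t => ((l.comp diag) t : ℂ)) (cj ((s : GL (Fin 2) F) * D) (fld σ g)) =
      indFun (borel F) (fun t => ((l.comp diag) t : ℂ)) (cj D (fld σ g)) := by
    rw [map_mul, MulAut.mul_apply, cj_sl]
    exact Characters.Brauer.indFun_isClassFunction (borel F) (fun t => ((l.comp diag) t : ℂ)) _ _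
  rw [h1]
  let ι : SL₂ →* SL₂ := (cj D * fld σ : MulAut SL₂).toMonoidHom
  have hι : ∀ x, ι x = cj D (fld σ x) := fun x => rfl
  have hmem : ∀ x, x ∈ borel F ↔ ι x ∈ borel F := by
    intro x
    rw [mem_borel, mem_borel, hι, (cj_entries h10 h00 (fld σ x)).1]
    show x 1 0 = 0 ↔ σ (x 1 0) = 0
    rw [map_eq_zero]
  exact indFun_hom ι (borel F) (borel F) hmem (fun a => ⟨(cj D * fld σ : MulAut SL₂).symm a, 1, one_mem _, by
    rw [mul_one]; exact ((cj D * fld σ : MulAut SL₂).apply_symm_apply a).symm⟩)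
    (fun t => ((l.comp diag) t : ℂ)) hcl (fun t => ((l.comp diag) t : ℂ)) (fun x => by
      rw [MonoidHom.comp_apply, MonoidHom.comp_apply]
      have h2 : diag (⟨ι x, (hmem x).1 x.2⟩ : borel F) = Units.map (σ : F →* F) (diag x) := by
        apply Units.ext
        show (cj D (fld σ (x : SL₂))) 0 0 = σ ((x : SL₂) 0 0)
        rw [(cj_entries h10 h00 (fld σ (x : SL₂))).2]
        · rfl
        · show σ ((x : SL₂) 1 0) = 0
          rw [mem_borel.1 x.2, map_zero]
      rw [h2, hl]) g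

/-- the values on the centre -/
theorem prin_center [Fintype SL₂] (l : Fˣ →* ℂˣ) (hl1 : ∀ c : Fˣ, c ^ 2 = 1 → l c = 1) (z : SL₂)
    (hz : z ∈ Subgroup.center SL₂) : indFun (borel F) (fun t => ((l.comp diag) t : ℂ)) z =
      indFun (borel F) (fun t => ((l.comp diag) t : ℂ)) 1 := by
  classical
  have hcomm := Subgroup.mem_center_iff.1 hz
  obtain ⟨c, hc1, hc⟩ := Matrix.SpecialLinearGroup.mem_center_iff.1 hz
  have h10 : z 1 0 = 0 := by
    show (z : Matrix (Fin 2) (Fin 2) F) 1 0 = 0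
    rw [← hc, scalar_apply, diagonal_apply_ne _ (by decide)]
  have h00 : z 0 0 = c := by
    show (z : Matrix (Fin 2) (Fin 2) F) 0 0 = c
    rw [← hc, scalar_apply, diagonal_apply_eq]
  have hzB : z ∈ borel F := h10
  unfold indFun
  congr 1
  refine Finset.sum_congr rfl fun x _ => ?_
  have h1 : x⁻¹ * z * x = z := by
    rw [mul_assoc, ← hcomm, inv_mul_cancel_left]
  rw [h1, mul_one, inv_mul_cancel, OddOrderCharacters.Clifford.ext_apply_mem _ _ _ hzB,
    OddOrderCharacters.Clifford.ext_apply_mem _ _ _ (one_mem (borel F))]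
  congr 1
  rw [MonoidHom.comp_apply, MonoidHom.comp_apply]
  have h2 : l (diag (⟨z, hzB⟩ : borel F)) = 1 := by
    apply hl1
    apply Units.ext
    rw [Units.val_pow_eq_pow_val]
    show (z 0 0) ^ 2 = 1
    rw [h00, ← hc1, Fintype.card_fin]
  have h3 : diag (⟨1, one_mem (borel F)⟩ : borel F) = 1 := map_one _
  rw [h2, h3, map_one]

/-- **the principal series gives a witness** -/
theorem prin_wt {p : ℕ} [Fact p.Prime] [CharP F p] (A : Subgroup (MulAut PSL₂)) (l : Fˣ →* ℂˣ)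
    (hl1 : ∀ c : Fˣ, c ^ 2 = 1 → l c = 1) (d : Fˣ) (hl2 : l (d ^ 2) ≠ 1)
    (hl3 : ∀ α ∈ A, ∀ c : Fˣ, l (Units.map (fpart p α : F →* F) c) = l c) : ∃ θ, Wt p PSL₂ A θ := by
  classical
  have : Fintype SL₂ := Fintype.ofFinite _
  have := Fintype.ofFinite F
  obtain ⟨θ, hθ, hθΘ⟩ := descend (prin_irr l d hl2) (prin_center l hl1)
  have hone : θ 1 = ((Fintype.card F + 1 : ℕ) : ℂ) := by
    have h1 := hθΘ 1
    rw [map_one, indFun_one', index_borel] at h1
    exact h1
  have hp : p.Prime := Fact.out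
  have hpq : p ∣ Fintype.card F := by
    obtain ⟨n, -, hn⟩ := FiniteField.card F p
    rw [hn]
    exact dvd_pow_self p n.ne_zero
  refine ⟨θ, hθ, ?_, ⟨_, hone, ?_⟩, ⟨Fintype.card F - 1, ?_, ?_⟩, ?_⟩
  · rintro rfl
    rw [Pi.one_apply] at hone
    have h1 : (Fintype.card F + 1 : ℕ) = 1 := by exact_mod_cast hone.symm
    have := Fintype.card_pos (α := F)
    omega
  · intro h
    exact hp.one_lt.ne' (Nat.dvd_one.1 ((Nat.dvd_add_right hpq).1 h))
  · intro h
    have h1 : 1 ≤ Fintype.card F := Fintype.card_pos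
    have h2 : p ∣ Fintype.card F - (Fintype.card F - 1) := Nat.dvd_sub hpq h
    rw [Nat.sub_sub_self h1] at h2
    exact hp.one_lt.ne' (Nat.dvd_one.1 h2)
  · intro g
    obtain ⟨g, rfl⟩ := pr_surjective g
    rw [hθΘ]
    have h1 : 1 < Fintype.card F := Fintype.one_lt_card
    refine indFun_mem (borel F) (l.comp diag) (by omega) (fun x => ?_) g
    rw [MonoidHom.comp_apply, ← map_pow]
    have h2 : diag x ^ (Fintype.card F - 1) = 1 := by
      rw [← Fintype.card_units]
      exact pow_card_eq_one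
    rw [h2, map_one]
  · intro α hα x
    obtain ⟨x, rfl⟩ := pr_surjective x
    obtain ⟨M, hM⟩ := exists_cj p α
    have h1 : α (pr x) = pr (cj M (fld (fpart p α) x)) := by
      conv_lhs => rw [hM]
      rfl
    rw [h1, hθΘ, hθΘ]
    exact prin_inv l M _ (hl3 α hα) x

end sl

end Cfsg.Agent.H936.RB

namespace Cfsg.Agent.H936.RB

open scoped ComplexConjugate

open Cfsg.Agent.H993.OC Cfsg.Agent.H145.BR Cfsg.Agent.H139.Cusp Cfsg.Agent.H699.CusG Cfsg.Agent.H576.Ext
  Cfsg.Agent.H328.Gow Cfsg.Agent.H477.HC Cfsg.Agent.H53.HC.Gal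

universe u

section disc

variable {F : Type u} [Field F] [Finite F]

local notation "SL₂" => Matrix.SpecialLinearGroup (Fin 2) F
local notation "PSL₂" => Matrix.ProjectiveSpecialLinearGroup (Fin 2) F

variable {L : Type} [Field L] [Finite L] [Algebra F L] (hL : Module.finrank F L = 2) {μ : L →*₀ ℂ}
  (hμ : Function.Injective μ) {a : ℕ} (ha : a ≠ 0) (har : a * 3 = Nat.card Lˣ) (h3 : Nat.card F % 3 = 2)

theorem theta_cube (har : a * 3 = Nat.card Lˣ) {x : L} (hx : x ≠ 0) : powTheta μ a ha x ^ 3 = 1 := by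
  rw [powTheta_apply, ← pow_mul, har, ← map_pow]
  have h3 : (Units.mk0 x hx) ^ Nat.card Lˣ = 1 := pow_card_eq_one'
  have h4 : x ^ Nat.card Lˣ = 1 := congrArg Units.val h3
  rw [h4, map_one]

/-- `θ ^ n` depends on `n` modulo `3` -/
theorem theta_pow (har : a * 3 = Nat.card Lˣ) {n m : ℕ} (h : n % 3 = m % 3) (hn : n ≠ 0) (hm : m ≠ 0) (x : L) :
    powTheta μ a ha x ^ n = powTheta μ a ha x ^ m := by
  by_cases hx : x = 0
  · rw [hx, map_zero, zero_pow hn, zero_pow hm]
  · rw [← Nat.div_add_mod n 3, ← Nat.div_add_mod m 3, pow_add, pow_mul, theta_cube ha har hx, one_pow, one_mul, pow_add,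
      pow_mul, theta_cube ha har hx, one_pow, one_mul, h]

theorem theta_conj (har : a * 3 = Nat.card Lˣ) (x : L) : conj (powTheta μ a ha x) = powTheta μ a ha x ^ 2 := by
  rw [conj_theta_eq]
  by_cases hx : x = 0
  · rw [hx, _root_.inv_zero, map_zero, zero_pow two_ne_zero]
  · rw [map_inv₀]
    exact inv_eq_of_mul_eq_one_left (by rw [← theta_cube ha har hx]; ring)

include hL h3 in
/-- `ψ` does not change if `θ` is replaced by `θ ^ 2` -/
theorem psi_sq (har : a * 3 = Nat.card Lˣ) {θ' : L →*₀ ℂ} (hθ' : ∀ x, θ' x = powTheta μ a ha x ^ 2) (A : GL (Fin 2) F) :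
    psi L θ' A = psi L (powTheta μ a ha) A := by
  classical
  have := Fintype.ofFinite F
  have := Fintype.ofFinite L
  let φ := FiniteField.frobeniusAlgEquivOfAlgebraic F L
  have hφ : ∀ x, φ x = x ^ Nat.card F := fun x => by
    rw [Nat.card_eq_fintype_card]
    rfl
  have hq : Nat.card F ≠ 0 := Nat.card_pos.ne'
  have h1 := psi_sigma (F := F) (L := L) (RingEquiv.refl F) φ.toRingEquiv (fun c => φ.commutes c)
    (θ := powTheta μ a ha) (θ' := θ') (fun x => by
      show θ' (φ x) = _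
      rw [hφ, hθ', map_pow, ← pow_mul]
      conv_rhs => rw [← pow_one (powTheta μ a ha x)]
      exact theta_pow ha har (by omega) (by omega) one_ne_zero x) hL A
  rw [← h1]
  congr 1

include hL h3 in
theorem psi_pow (har : a * 3 = Nat.card Lˣ) {n : ℕ} (hn : ¬ 3 ∣ n) (hn0 : n ≠ 0) {θ' : L →*₀ ℂ}
    (hθ' : ∀ x, θ' x = powTheta μ a ha x ^ n) (A : GL (Fin 2) F) : psi L θ' A = psi L (powTheta μ a ha) A := by
  rcases (by omega : n % 3 = 1 ∨ n % 3 = 2) with h | h
  · have h1 : θ' = powTheta μ a ha := by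
      ext x
      rw [hθ', theta_pow ha har (m := 1) (by omega) hn0 one_ne_zero, pow_one]
    rw [h1]
  · exact psi_sq hL ha h3 har (fun x => by rw [hθ', theta_pow ha har (m := 2) (by omega) hn0 two_ne_zero]) A

/-- `SL₂` as a subgroup of `GL₂` -/
def toDL : SL₂ →* DL (⊥ : Subgroup Fˣ) 2 :=
  Matrix.SpecialLinearGroup.toGL.codRestrict _ (fun g => by
    show Matrix.GeneralLinearGroup.det (Matrix.SpecialLinearGroup.toGL g) ∈ (⊥ : Subgroup Fˣ)
    rw [Subgroup.mem_bot]
    exact Units.ext g.2)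

theorem toDL_surjective : Function.Surjective (toDL (F := F)) := by
  rintro ⟨A, hA⟩
  have h1 : Matrix.GeneralLinearGroup.det A = 1 := Subgroup.mem_bot.1 hA
  refine ⟨⟨(A : Matrix (Fin 2) (Fin 2) F), congrArg Units.val h1⟩, ?_⟩
  apply Subtype.ext
  exact Units.ext rfl

include hL hμ ha har h3 in
theorem disc_irr : IsIrrCharacter (GL (Fin 2) F) (psi L (powTheta μ a ha)) ∧
    IsIrrCharacter SL₂ (fun g => psi L (powTheta μ a ha) (Matrix.SpecialLinearGroup.toGL g)) := by
  have hcardL : Nat.card Lˣ = Nat.card F ^ 2 - 1 := by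
    rw [Nat.card_units, Module.natCard_eq_pow_finrank (K := F), hL]
  have hR : Regular F 2 (powTheta μ a ha) := (regular_powTheta_iff hμ ha hL).2 fun i hi hik h => by
    have hi1 : i = 1 := by omega
    subst hi1
    rw [← hcardL, ← har, pow_one] at h
    have := Nat.dvd_of_mul_dvd_mul_left (Nat.pos_of_ne_zero ha) h
    omega
  have hirr := psi_isIrr _ hL hR
  refine ⟨hirr, ?_⟩
  have hd : DIrr ⊥ (psi (n := 2) (F := F) L (powTheta μ a ha)) := by
    refine dirr_psi hL two_pos ⊥ _ hirr ?_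
    intro i hi0 hi h
    have hi1 : i = 1 := by omega
    subst hi1
    obtain ⟨γ, hγ⟩ := IsCyclic.exists_ofOrder_eq_natCard (α := Lˣ)
    set x : Lˣ := γ ^ (Nat.card F - 1) with hx
    have h1 := h (x : L) ⟨1, one_mem _, by
      have h5 : Algebra.norm F ((γ : L)) ^ (Nat.card F - 1) = 1 := by
        have h6 : Algebra.norm F (γ : L) ≠ 0 := by
          rw [Ne, Algebra.norm_eq_zero_iff]
          exact γ.ne_zero
        have h7 : (Units.mk0 _ h6) ^ (Nat.card F - 1) = 1 := by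
          rw [← Nat.card_units]
          exact pow_card_eq_one'
        exact congrArg Units.val h7
      rw [hx, Units.val_pow_eq_pow_val, map_pow, h5]
      rfl⟩
    rw [pow_one, map_pow, theta_pow ha har (n := Nat.card F) (m := 2) (by omega) (by omega) two_ne_zero,
      powTheta_apply, ← pow_mul, ← map_pow, ← map_pow, hx, ← Units.val_pow_eq_pow_val, ← Units.val_pow_eq_pow_val,
      ← pow_mul, ← pow_mul] at h1
    have h2 := Units.ext (hμ h1)
    have h4 : γ ^ ((Nat.card F - 1) * (a * 2)) = γ ^ ((Nat.card F - 1) * a) * γ ^ ((Nat.card F - 1) * a) := by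
      rw [← pow_add]
      congr 1
      ring
    rw [h4] at h2
    have h5 : γ ^ ((Nat.card F - 1) * a) = 1 := (mul_eq_left.1 h2.symm)
    have h6 := orderOf_dvd_of_pow_eq_one h5
    rw [hγ, ← har, mul_comm (Nat.card F - 1)] at h6
    have := Nat.dvd_of_mul_dvd_mul_left (Nat.pos_of_ne_zero ha) h6
    omega
  exact Characters.Core.isIrr_comp toDL toDL_surjective hd

include hL hμ ha har h3 in
/-- **the discrete series character of order `3` gives a witness**, `q ≡ 2` modulo `3` -/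
theorem disc_wt' {p : ℕ} [Fact p.Prime] [CharP F p] (hp2 : p ≠ 2) (h5 : 3 < Nat.card F) (A : Subgroup (MulAut PSL₂)) :
    ∃ θ, Wt p PSL₂ A θ := by
  classical
  obtain ⟨hirr, hSL⟩ := disc_irr hL hμ ha har h3
  have hp : p.Prime := Fact.out
  have hpq : p ∣ Nat.card F := by
    have := Fintype.ofFinite F
    rw [Nat.card_eq_fintype_card]
    obtain ⟨n, -, hn⟩ := FiniteField.card F p
    rw [hn]
    exact dvd_pow_self p n.ne_zero
  have hp3 : ¬ 3 ∣ p := fun h => by
    have := h.trans hpq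
    omega
  have hpow : ∀ j : ℕ, ¬ 3 ∣ p ^ j := fun j h => hp3 (Nat.prime_three.dvd_of_dvd_pow h)
  -- the centre
  have hz : ∀ z ∈ Subgroup.center SL₂, psi (n := 2) (F := F) L (powTheta μ a ha) (Matrix.SpecialLinearGroup.toGL z) =
      psi (n := 2) (F := F) L (powTheta μ a ha) (Matrix.SpecialLinearGroup.toGL 1) := by
    intro z hz
    obtain ⟨c, hc1, hc⟩ := Matrix.SpecialLinearGroup.mem_center_iff.1 hz
    rw [Fintype.card_fin] at hc1
    have hc0 : c ≠ 0 := by
      rintro rfl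
      rw [zero_pow two_ne_zero] at hc1
      exact zero_ne_one hc1
    have h1 : Matrix.SpecialLinearGroup.toGL z = Matrix.GeneralLinearGroup.scalar (Fin 2) (Units.mk0 c hc0) * 1 := by
      rw [mul_one]
      apply Units.ext
      exact hc.symm
    rw [h1, psi_scalar _ hL, map_one]
    have h2 : powTheta μ a ha (algebraMap F L c) = 1 := by
      have h3 := theta_cube (μ := μ) ha har (x := algebraMap F L c) (by rwa [Ne, map_eq_zero])
      have h4 : powTheta μ a ha (algebraMap F L c) ^ 2 = 1 := by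
        rw [← map_pow, ← map_pow, hc1, map_one, map_one]
      rw [pow_succ, h4, one_mul] at h3
      exact h3
    rw [Units.val_mk0, h2, one_mul]
  obtain ⟨θ, hθ, hθΘ⟩ := descend hSL hz
  have hone : θ 1 = ((Nat.card F - 1 : ℕ) : ℂ) := by
    have h1 := hθΘ 1
    rw [map_one, map_one, psi_one _ _ two_pos] at h1
    rw [h1]
    simp [degP]
  refine ⟨θ, hθ, ?_, ⟨_, hone, ?_⟩, ?_, ?_⟩
  · rintro rfl
    rw [Pi.one_apply] at hone
    have h1 : (Nat.card F - 1 : ℕ) = 1 := by exact_mod_cast hone.symm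
    omega
  · intro h
    have h1 : 1 ≤ Nat.card F := Nat.card_pos
    have h2 : p ∣ Nat.card F - (Nat.card F - 1) := Nat.dvd_sub hpq h
    rw [Nat.sub_sub_self h1] at h2
    exact hp.one_lt.ne' (Nat.dvd_one.1 h2)
  · refine pRat_of_int fun g => ?_
    refine Characters.Galois.exists_int_of_forall_ringEquiv (Blocks.Central.isIntegral_irr hθ g) fun τ => ?_
    obtain ⟨g, rfl⟩ := pr_surjective g
    rw [hθΘ, psi_map]
    rcases mapTheta_three hμ ha har τ with h | h
    · rw [h]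
    · rw [h]
      exact psi_sq hL ha h3 har (fun x => by rw [conjTheta_apply, theta_conj ha har]) _
  · intro α hα x
    obtain ⟨x, rfl⟩ := pr_surjective x
    obtain ⟨M, hM⟩ := exists_cj p α
    have h1 : α (pr x) = pr (cj M (fld (fpart p α) x)) := by
      conv_lhs => rw [hM]
      rfl
    rw [h1, hθΘ, hθΘ]
    obtain ⟨j, hj⟩ := exists_frob_pow (p := p) (fpart p α)
    have h2 : Matrix.SpecialLinearGroup.toGL (cj M (fld (fpart p α) x)) =
        M * Matrix.GeneralLinearGroup.map ((fpart p α : F ≃+* F) : F →+* F) (Matrix.SpecialLinearGroup.toGL x) * M⁻¹ := by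
      apply Units.ext
      rw [Units.val_mul, Units.val_mul]
      exact coe_cj _ _
    rw [h2]
    have h3' := psi_isClass (n := 2) (F := F) (powTheta μ a ha) (L := L)
      (Matrix.GeneralLinearGroup.map ((fpart p α : F ≃+* F) : F →+* F) (Matrix.SpecialLinearGroup.toGL x)) M
    rw [h3']
    have h4 := congrFun (fmap_psi (n := 2) hL (p := p) (τ := ((fpart p α : F ≃+* F) : F →+* F)) hj (powTheta μ a ha))
      (Matrix.SpecialLinearGroup.toGL x)
    refine h4.trans ?_
    exact psi_pow hL ha h3 har (hpow j) (pow_pos hp.pos j).ne' (fun y => by rw [powTheta_apply]) _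

end disc

/-- **the discrete series character of order `3` gives a witness**, `q ≡ 2` modulo `3` -/
theorem disc_wt {F : Type u} [Field F] [Finite F] {p : ℕ} [Fact p.Prime] [CharP F p] (hp2 : p ≠ 2)
    (h3 : Nat.card F % 3 = 2) (A : Subgroup (MulAut (Matrix.ProjectiveSpecialLinearGroup (Fin 2) F))) :
    ∃ θ, Wt p (Matrix.ProjectiveSpecialLinearGroup (Fin 2) F) A θ := by
  obtain ⟨L, _, _, _, hL⟩ := H477.HC.exists_L F 2 two_pos
  obtain ⟨μ, hμ⟩ := exists_theta L
  have hcard : Nat.card Lˣ = (Nat.card F - 1) * (Nat.card F + 1) := by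
    rw [Nat.card_units, Module.natCard_eq_pow_finrank (K := F), hL, Nat.sub_one_mul, Nat.mul_succ, pow_two]
    omega
  have hodd : Nat.card F ≠ 2 := by
    intro h
    have := Fintype.ofFinite F
    obtain ⟨n, hp, hn⟩ := FiniteField.card F p
    rw [← Nat.card_eq_fintype_card, h] at hn
    have h1 : p ∣ 2 := by
      rw [hn]
      exact dvd_pow_self p n.ne_zero
    exact hp2 ((Nat.prime_dvd_prime_iff_eq hp Nat.prime_two).1 h1)
  obtain ⟨b, hb⟩ : 3 ∣ Nat.card F + 1 := by omega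
  have hb0 : (Nat.card F - 1) * b ≠ 0 := mul_ne_zero (by omega) (by omega)
  exact disc_wt' hL hμ hb0 (by rw [hcard, hb]; ring) h3 hp2 (by omega) A

end Cfsg.Agent.H936.RB

namespace Cfsg.Agent.H936.RB

open scoped Pointwise

open Cfsg.Agent.H993.OC Cfsg.Agent.H145.BR
open Cfsg.Agent.H748.RoPSL (up mul00 mul01 mul10 mul11 inv00 inv01 inv10 inv11 up00 up01 up10 up11 wl wl00 wl01 wl10 wl11
  unip conj_up det2 up_add up_inv up_zero)

universe u

section second

variable {F : Type u} [Field F]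

local notation "SL₂" => Matrix.SpecialLinearGroup (Fin 2) F
local notation "PSL₂" => Matrix.ProjectiveSpecialLinearGroup (Fin 2) F

theorem lower_of_pr {C : SL₂} {y : F} (h : pr C = pr (up y)) : C.1 1 0 = 0 := by
  have h1 : pr ((up y)⁻¹ * C) = 1 := by rw [map_mul, map_inv, h, inv_mul_cancel]
  have h2 := (H417.TI.Psl.pr_eq_one.1 h1).2.1
  rw [mul10, inv10, inv11, up10, up00, neg_zero, zero_mul, zero_add, one_mul] at h2
  exact h2

theorem borel_of_pr {b : SL₂} {y : F} (h : pr (b * up 1 * b⁻¹) = pr (up y)) : b.1 1 0 = 0 := by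
  have h1 := lower_of_pr h
  rw [mul10, mul10, mul11, inv00, inv10, up00, up10, up01, up11] at h1
  have h2 : b.1 1 0 ^ 2 = 0 := by linear_combination (-1 : F) * h1
  exact pow_eq_zero_iff two_ne_zero |>.1 h2

theorem upper_of_cj {M : GL (Fin 2) F} {y : F} (h : pr (cj M (up 1)) = pr (up y)) :
    (M : Matrix (Fin 2) (Fin 2) F) 1 0 = 0 := by
  have hC := lower_of_pr h
  have h1 : (cj M (up 1) : Matrix (Fin 2) (Fin 2) F) * (M : Matrix (Fin 2) (Fin 2) F) =
      (M : Matrix (Fin 2) (Fin 2) F) * ((up 1 : SL₂) : Matrix (Fin 2) (Fin 2) F) := by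
    rw [coe_cj, mul_assoc, ← Units.val_mul, inv_mul_cancel, Units.val_one, mul_one]
  have e10 := congrFun (congrFun h1 1) 0
  have e11 := congrFun (congrFun h1 1) 1
  rw [Matrix.mul_apply, Matrix.mul_apply, Fin.sum_univ_two, Fin.sum_univ_two, hC, up00, up10] at e10
  rw [Matrix.mul_apply, Matrix.mul_apply, Fin.sum_univ_two, Fin.sum_univ_two, hC, up01, up11] at e11
  by_contra h0
  have h2 : (cj M (up 1)).1 1 1 = 1 := mul_right_cancel₀ h0 (by linear_combination e10)
  rw [h2] at e11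
  apply h0
  linear_combination (-1 : F) * e11

theorem diag_ne {M : GL (Fin 2) F} (h10 : (M : Matrix (Fin 2) (Fin 2) F) 1 0 = 0) :
    (M : Matrix (Fin 2) (Fin 2) F) 0 0 ≠ 0 ∧ (M : Matrix (Fin 2) (Fin 2) F) 1 1 ≠ 0 := by
  have h2 := (M.isUnit.map (Matrix.detMonoidHom (n := Fin 2) (R := F))).ne_zero
  have h3 : (Matrix.detMonoidHom (n := Fin 2) (R := F)) (M : Matrix (Fin 2) (Fin 2) F) =
    (M : Matrix (Fin 2) (Fin 2) F) 0 0 * (M : Matrix (Fin 2) (Fin 2) F) 1 1 := by
    show (M : Matrix (Fin 2) (Fin 2) F).det = _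
    rw [Matrix.det_fin_two, h10, mul_zero, sub_zero]
  rw [h3] at h2
  exact mul_ne_zero_iff.1 h2

theorem cj_up {M : GL (Fin 2) F} (h10 : (M : Matrix (Fin 2) (Fin 2) F) 1 0 = 0) (t : F) :
    cj M (up t) = up ((M : Matrix (Fin 2) (Fin 2) F) 0 0 * ((M : Matrix (Fin 2) (Fin 2) F) 1 1)⁻¹ * t) := by
  obtain ⟨-, h11⟩ := diag_ne h10
  apply Subtype.ext
  rw [coe_cj, Units.mul_inv_eq_iff_eq_mul]
  ext i j
  rw [Matrix.mul_apply, Matrix.mul_apply, Fin.sum_univ_two, Fin.sum_univ_two]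
  fin_cases i <;> fin_cases j
  · show (M : Matrix (Fin 2) (Fin 2) F) 0 0 * 1 + (M : Matrix (Fin 2) (Fin 2) F) 0 1 * 0 =
      1 * (M : Matrix (Fin 2) (Fin 2) F) 0 0 + _ * (M : Matrix (Fin 2) (Fin 2) F) 1 0
    rw [h10]; ring
  · show (M : Matrix (Fin 2) (Fin 2) F) 0 0 * t + (M : Matrix (Fin 2) (Fin 2) F) 0 1 * 1 =
      1 * (M : Matrix (Fin 2) (Fin 2) F) 0 1 + ((M : Matrix (Fin 2) (Fin 2) F) 0 0 *
        ((M : Matrix (Fin 2) (Fin 2) F) 1 1)⁻¹ * t) * (M : Matrix (Fin 2) (Fin 2) F) 1 1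
    field_simp
    ring
  · show (M : Matrix (Fin 2) (Fin 2) F) 1 0 * 1 + (M : Matrix (Fin 2) (Fin 2) F) 1 1 * 0 =
      0 * (M : Matrix (Fin 2) (Fin 2) F) 0 0 + 1 * (M : Matrix (Fin 2) (Fin 2) F) 1 0
    ring
  · show (M : Matrix (Fin 2) (Fin 2) F) 1 0 * t + (M : Matrix (Fin 2) (Fin 2) F) 1 1 * 1 =
      0 * (M : Matrix (Fin 2) (Fin 2) F) 0 1 + 1 * (M : Matrix (Fin 2) (Fin 2) F) 1 1
    rw [h10]; ring

theorem fld_up (σ : F ≃+* F) (t : F) : fld σ (up t) = up (σ t) := by
  apply H748.RoPSL.ext2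
  · show σ 1 = 1; rw [map_one]
  · rfl
  · show σ 0 = 0; rw [map_zero]
  · show σ 1 = 1; rw [map_one]

theorem noncomm : ∃ a b : PSL₂, a * b ≠ b * a := by
  refine ⟨pr wl, pr (up 1), fun h => ?_⟩
  have h1 : pr (wl * up (1 : F) * wl⁻¹) = pr (up 1) := by
    rw [map_mul, map_mul, map_inv, h, mul_inv_cancel_right]
  have h2 := borel_of_pr h1
  rw [wl10] at h2
  exact one_ne_zero (neg_eq_zero.1 h2)

theorem conj_injective [IsSimpleGroup PSL₂] : Function.Injective (MulAut.conj : PSL₂ →* MulAut PSL₂) := by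
  refine (injective_iff_map_eq_one _).2 fun x hx => ?_
  have h1 : x ∈ Subgroup.center PSL₂ := by
    rw [Subgroup.mem_center_iff]
    intro y
    have h2 : x * y * x⁻¹ = y := DFunLike.congr_fun hx y
    exact (mul_inv_eq_iff_eq_mul.1 h2).symm
  rw [H684.DefChar.center_eq_bot noncomm] at h1
  exact Subgroup.mem_bot.1 h1

/-- the key computation -/
theorem core [Finite F] {p : ℕ} [Fact p.Prime] [CharP F p] [IsSimpleGroup PSL₂] {A : Subgroup (MulAut PSL₂)}
    (hA : IsPGroup p A) (hU : ∀ x : F, MulAut.conj (pr (up x)) ∈ A) (h3 : Nat.card (fixF (A.map (fpart p))) = 3)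
    (h4 : Nat.card F % 4 = 3) {g : PSL₂} (hg : ¬ p ∣ orderOf g)
    (hgA : ∀ a ∈ A, MulAut.conj g * a * (MulAut.conj g)⁻¹ ∈ A) : g = 1 := by
  obtain ⟨P, hP⟩ := H417.TI.Psl.exists_sylP (F := F) (r := p)
  have hPmem : ∀ {y : PSL₂}, y ∈ P ↔ ∃ x : F, pr (up x) = y := by
    intro y
    have h1 : y ∈ P ↔ y ∈ (P : Subgroup PSL₂) := Iff.rfl
    rw [h1, hP]
    constructor
    · rintro ⟨_, ⟨x, rfl⟩, rfl⟩
      exact ⟨x, rfl⟩
    · rintro ⟨x, rfl⟩
      exact ⟨_, ⟨x, rfl⟩, rfl⟩
  -- the inner automorphisms in `A`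
  have hin : ∀ x : PSL₂, MulAut.conj x ∈ A → ∃ y : F, pr (up y) = x := by
    have h1 : IsPGroup p (A.comap (MulAut.conj : PSL₂ →* MulAut PSL₂)) :=
      hA.comap_of_injective _ conj_injective
    have h2 : (P : Subgroup PSL₂) ≤ A.comap (MulAut.conj : PSL₂ →* MulAut PSL₂) := by
      intro y hy
      obtain ⟨x, rfl⟩ := hPmem.1 hy
      exact hU x
    have h5 := P.is_maximal' h1 h2
    intro x hx
    have h6 : x ∈ (P : Subgroup PSL₂) := by
      rw [← h5]
      exact hx
    exact hPmem.1 h6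
  obtain ⟨b, rfl⟩ := pr_surjective g
  -- `g` normalizes `P`
  have hb : b.1 1 0 = 0 := by
    obtain ⟨y, hy⟩ := hin (pr b * pr (up 1) * (pr b)⁻¹) (by
      rw [map_mul, map_mul, map_inv]
      exact hgA _ (hU 1))
    rw [← map_inv, ← map_mul, ← map_mul] at hy
    exact borel_of_pr hy.symm
  set k : F := b.1 0 0 * b.1 0 0 with hk
  have hgk : ∀ x : F, pr b * pr (up x) * (pr b)⁻¹ = pr (up (k * x)) := by
    intro x
    rw [← map_inv, ← map_mul, ← map_mul, conj_up hb]
  have hk0 : k ≠ 0 := by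
    have hd := det2 b
    rw [hb, mul_zero, sub_zero] at hd
    have : b.1 0 0 ≠ 0 := left_ne_zero_of_mul (hd.trans_ne one_ne_zero)
    exact mul_ne_zero this this
  -- `k` is fixed
  have hkf : k ∈ fixF (A.map (fpart p)) := by
    rw [mem_fixF]
    rintro _ ⟨a, ha, rfl⟩
    obtain ⟨M, hM⟩ := exists_cj p a
    set σ := fpart p a with hσ
    have ha1 : ∀ x : F, a (pr (up x)) = pr (cj M (up (σ x))) := by
      intro x
      conv_lhs => rw [hM]
      rw [lift_pr, MulAut.mul_apply, fld_up]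
    have hM10 : (M : Matrix (Fin 2) (Fin 2) F) 1 0 = 0 := by
      obtain ⟨y, hy⟩ := hin (a (pr (up 1))) (by
        have h5 : (MulAut.conj (a (pr (up 1))) : MulAut PSL₂) = a * MulAut.conj (pr (up 1)) * a⁻¹ := by
          ext z
          simp [MulAut.conj_apply]
        rw [h5]
        exact mul_mem (mul_mem ha (hU 1)) (inv_mem ha))
      rw [ha1, map_one] at hy
      exact upper_of_cj hy.symm
    obtain ⟨h00, h11⟩ := diag_ne hM10
    set m : F := (M : Matrix (Fin 2) (Fin 2) F) 0 0 * ((M : Matrix (Fin 2) (Fin 2) F) 1 1)⁻¹ with hm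
    have hm0 : m ≠ 0 := mul_ne_zero h00 (inv_ne_zero h11)
    have ha2 : ∀ x : F, a (pr (up x)) = pr (up (m * σ x)) := by
      intro x
      rw [ha1, cj_up hM10]
    -- `g (a g)⁻¹ ∈ P`
    obtain ⟨u, hu⟩ := hin (pr b * (a (pr b))⁻¹) (by
      have h5 : (MulAut.conj (pr b * (a (pr b))⁻¹) : MulAut PSL₂) =
          MulAut.conj (pr b) * a * (MulAut.conj (pr b))⁻¹ * a⁻¹ := by
        ext z
        simp [MulAut.conj_apply, mul_assoc]
      rw [h5]
      exact mul_mem (hgA a ha) (inv_mem ha))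
    have h6 : pr b = pr (up u) * a (pr b) := by rw [hu, inv_mul_cancel_right]
    have h7 : a (pr b) * pr (up m) * (a (pr b))⁻¹ = pr (up (σ k * m)) := by
      have h8 : (pr (up m) : PSL₂) = a (pr (up 1)) := by rw [ha2, map_one, mul_one]
      rw [h8, ← map_inv, ← map_mul, ← map_mul, hgk, ha2, mul_one, mul_comm m]
    have h8 := hgk m
    rw [h6, _root_.mul_inv_rev] at h8
    have h9 : pr (up u) * a (pr b) * pr (up m) * ((a (pr b))⁻¹ * (pr (up u))⁻¹) =
        pr (up u) * (a (pr b) * pr (up m) * (a (pr b))⁻¹) * (pr (up u))⁻¹ := by group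
    rw [h9, h7, ← map_inv, ← map_mul, ← map_mul, up_inv, up_add, up_add] at h8
    have h10 := H417.TI.Psl.pr_up_inj h8
    have h11' : (σ k - k) * m = 0 := by linear_combination h10
    exact sub_eq_zero.1 ((mul_eq_zero.1 h11').resolve_right hm0)
  -- `k = 1`
  have hk2 : k ^ 2 = 1 := by
    have hfin : Finite (fixF (A.map (fpart p))) := inferInstance
    have h5 : (⟨k, hkf⟩ : fixF (A.map (fpart p))) ≠ 0 := fun h => hk0 (congrArg Subtype.val h)
    have h6 : (Units.mk0 _ h5) ^ (Nat.card (fixF (A.map (fpart p))) - 1) = 1 := by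
      rw [← Nat.card_units]
      exact pow_card_eq_one'
    rw [h3] at h6
    exact congrArg (fun x : (fixF (A.map (fpart p)))ˣ => ((x : fixF (A.map (fpart p))) : F)) h6
  have hd := det2 b
  rw [hb, mul_zero, sub_zero] at hd
  have hk1 : k = 1 := by
    have h5 : b.1 0 0 ≠ 0 := left_ne_zero_of_mul (hd.trans_ne one_ne_zero)
    set c : Fˣ := Units.mk0 _ h5 with hc
    have h6 : orderOf c ∣ 4 := by
      apply orderOf_dvd_of_pow_eq_one
      apply Units.ext
      rw [Units.val_pow_eq_pow_val, hc, Units.val_mk0, Units.val_one]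
      linear_combination hk2
    have h7 : orderOf c ∣ Nat.card F - 1 := by
      rw [← Nat.card_units]
      exact orderOf_dvd_natCard c
    have h8 : orderOf c ∣ 2 := by
      have h9 := Nat.dvd_gcd h6 h7
      have h10 : Nat.gcd 4 (Nat.card F - 1) ∣ 2 := by
        have h11 : Nat.card F - 1 = 4 * (Nat.card F / 4) + 2 := by omega
        rw [h11, Nat.gcd_mul_left_add_right]
        decide
      exact h9.trans h10
    have h9 := congrArg Units.val (orderOf_dvd_iff_pow_eq_one.1 h8)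
    rw [Units.val_pow_eq_pow_val, hc, Units.val_mk0, Units.val_one] at h9
    rw [hk]
    linear_combination h9
  have hgP : pr b = pr (up (b.1 0 0 * b.1 0 1)) := by
    have h5 : b.1 1 1 = b.1 0 0 := by
      linear_combination b.1 0 0 * hd - b.1 1 1 * hk1
    have h6 : pr ((up (b.1 0 0 * b.1 0 1))⁻¹ * b) = 1 := by
      refine H417.TI.Psl.pr_eq_one.2 ⟨?_, ?_, ?_⟩
      · rw [up_inv, mul01, up00, up01, h5]
        linear_combination (-b.1 0 1) * hk1
      · rw [up_inv, mul10, up10, up11, hb]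
        ring
      · rw [up_inv, mul00, mul11, up00, up01, up10, up11, hb, h5]
        ring
    rw [map_mul, map_inv, inv_mul_eq_one] at h6
    exact h6.symm
  have h5 : pr b ∈ (P : Subgroup PSL₂) := hPmem.2 ⟨_, hgP.symm⟩
  obtain ⟨j, hj⟩ := P.isPGroup' ⟨pr b, h5⟩
  have h6 : (pr b : PSL₂) ^ p ^ j = 1 := congrArg Subtype.val hj
  obtain ⟨i, -, hi⟩ := (Nat.dvd_prime_pow (Fact.out : p.Prime)).1 (orderOf_dvd_of_pow_eq_one h6)
  rw [← orderOf_eq_one_iff, hi]
  rcases i with _ | i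
  · rfl
  · exfalso
    apply hg
    rw [hi]
    exact dvd_pow_self p (Nat.succ_ne_zero i)

/-- conjugating `A` by an inner automorphism -/
theorem fixF_map [Finite F] {p : ℕ} [Fact p.Prime] [CharP F p] (A : Subgroup (MulAut PSL₂)) (s : PSL₂) :
    (A.map (MulAut.conj (MulAut.conj s : MulAut PSL₂)).toMonoidHom).map (fpart p) = A.map (fpart p) := by
  ext τ
  constructor
  · rintro ⟨_, ⟨a, ha, rfl⟩, rfl⟩
    refine ⟨a, ha, ?_⟩
    show _ = fpart p (MulAut.conj s * a * (MulAut.conj s)⁻¹)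
    rw [map_mul, map_mul, map_inv, fpart_conj, one_mul, inv_one, mul_one]
  · rintro ⟨a, ha, rfl⟩
    refine ⟨_, ⟨a, ha, rfl⟩, ?_⟩
    show fpart p (MulAut.conj s * a * (MulAut.conj s)⁻¹) = _
    rw [map_mul, map_mul, map_inv, fpart_conj, one_mul, inv_one, mul_one]

/-- **the second alternative**, `q = 3 ^ 3 ^ a` -/
theorem second [Finite F] {p : ℕ} [Fact p.Prime] [CharP F p] [IsSimpleGroup PSL₂] {A : Subgroup (MulAut PSL₂)}
    (hA : IsPGroup p A) (Q : Sylow p PSL₂) (hQ : ∀ x ∈ Q, MulAut.conj x ∈ A)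
    (h3 : Nat.card (fixF (A.map (fpart p))) = 3) (h4 : Nat.card F % 4 = 3) {g : PSL₂} (hg : ¬ p ∣ orderOf g)
    (hgA : ∀ a ∈ A, MulAut.conj g * a * (MulAut.conj g)⁻¹ ∈ A) : g = 1 := by
  obtain ⟨P, hP⟩ := H417.TI.Psl.exists_sylP (F := F) (r := p)
  obtain ⟨s, hs⟩ := MulAction.exists_smul_eq PSL₂ Q P
  set A' := A.map (MulAut.conj (MulAut.conj s : MulAut PSL₂)).toMonoidHom with hA'
  have h1 : ∀ x : F, MulAut.conj (pr (up x)) ∈ A' := by
    intro x
    have h2 : (pr (up x) : PSL₂) ∈ (s • Q : Sylow p PSL₂) := by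
      rw [hs]
      show (pr (up x) : PSL₂) ∈ (P : Subgroup PSL₂)
      rw [hP]
      exact ⟨_, ⟨x, rfl⟩, rfl⟩
    obtain ⟨y, hy, hyx⟩ : ∃ y ∈ Q, s * y * s⁻¹ = pr (up x) := h2
    refine ⟨_, hQ y hy, ?_⟩
    rw [← hyx]
    show MulAut.conj s * MulAut.conj y * (MulAut.conj s)⁻¹ = _
    rw [map_mul, map_mul, map_inv]
  have h2 : s * g * s⁻¹ = 1 := by
    refine core (A := A') (hA.map _) h1 (by rw [hA', fixF_map]; exact h3) h4 (g := s * g * s⁻¹) ?_ ?_
    · have h5 : orderOf (s * g * s⁻¹) = orderOf g :=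
        (MulEquiv.orderOf_eq (MulAut.conj s : MulAut PSL₂) g)
      rwa [h5]
    · rintro _ ⟨a, ha, rfl⟩
      refine ⟨_, hgA a ha, ?_⟩
      show MulAut.conj s * (MulAut.conj g * a * (MulAut.conj g)⁻¹) * (MulAut.conj s)⁻¹ =
        MulAut.conj (s * g * s⁻¹) * (MulAut.conj s * a * (MulAut.conj s)⁻¹) * (MulAut.conj (s * g * s⁻¹))⁻¹
      rw [map_mul, map_mul, map_inv]
      group
  exact conj_eq_one_iff.1 h2

end second

section main

theorem pow_mod_four {k : ℕ} (hk : Odd k) : 3 ^ k % 4 = 3 := by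
  obtain ⟨j, rfl⟩ := hk
  have h1 : 9 ^ j ≡ 1 ^ j [MOD 4] := Nat.ModEq.pow _ (by decide)
  have h2 : 9 ^ j * 3 ≡ 1 * 3 [MOD 4] := by
    rw [one_pow] at h1
    exact h1.mul_right 3
  rw [pow_succ, pow_mul]
  exact h2

theorem pow_mod_three {k : ℕ} (hk : Odd k) : 5 ^ k % 3 = 2 := by
  obtain ⟨j, rfl⟩ := hk
  have h1 : 25 ^ j ≡ 1 ^ j [MOD 3] := Nat.ModEq.pow _ (by decide)
  have h2 : 25 ^ j * 5 ≡ 1 * 5 [MOD 3] := by
    rw [one_pow] at h1
    exact h1.mul_right 5
  rw [pow_succ, pow_mul]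
  exact h2

variable {F : Type u} [Field F] [Finite F]

local notation "PSL₂" => Matrix.ProjectiveSpecialLinearGroup (Fin 2) F

/-- the principal series if the fixed field is large -/
theorem wt_large {p : ℕ} [Fact p.Prime] [CharP F p] (A : Subgroup (MulAut PSL₂))
    (h : 6 ≤ Nat.card (fixF (A.map (fpart p)))) : ∃ θ, Wt p PSL₂ A θ := by
  set Sg := A.map (fpart p) with hSg
  set q1 := Nat.card (fixF Sg) with hq1
  set e := (Nat.card F - 1) / (q1 - 1) with he
  have hdvd : q1 - 1 ∣ Nat.card F - 1 := by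
    rw [card_fixF Sg]
    have h1 := Nat.sub_dvd_pow_sub_pow q1 1 (Nat.card Sg)
    rwa [one_pow] at h1
  have hmul : e * (q1 - 1) = Nat.card F - 1 := Nat.div_mul_cancel hdvd
  have hF : 1 < Nat.card F := Finite.one_lt_card
  have he0 : 0 < e := by
    rcases Nat.eq_zero_or_pos e with h0 | h0
    · rw [h0, zero_mul] at hmul
      omega
    · exact h0
  obtain ⟨γ, hγ⟩ := IsCyclic.exists_ofOrder_eq_natCard (α := Fˣ)
  have h1 : γ ^ (4 * e) ≠ 1 := by
    intro h0
    have h2 := orderOf_dvd_of_pow_eq_one h0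
    rw [hγ, Nat.card_units, ← hmul, mul_comm 4 e] at h2
    have h3 := Nat.le_of_dvd (by norm_num) (Nat.dvd_of_mul_dvd_mul_left he0 h2)
    omega
  obtain ⟨l0, hl0⟩ := CommGroup.exists_apply_ne_one_of_hasEnoughRootsOfUnity Fˣ ℂ h1
  refine prin_wt A (l0.comp (powMonoidHom (2 * e))) (fun c hc => ?_) γ ?_ (fun α hα c => ?_)
  · rw [MonoidHom.comp_apply, powMonoidHom_apply, pow_mul, hc, one_pow, map_one]
  · rw [MonoidHom.comp_apply, powMonoidHom_apply, ← pow_mul]
    have h2 : 2 * (2 * e) = 4 * e := by ring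
    rwa [h2]
  · rw [MonoidHom.comp_apply, MonoidHom.comp_apply]
    congr 1
    rw [powMonoidHom_apply, powMonoidHom_apply, mul_comm 2 e, pow_mul, pow_mul]
    congr 1
    apply Units.ext
    rw [Units.val_pow_eq_pow_val, Units.val_pow_eq_pow_val]
    show (fpart p α (c : F)) ^ e = (c : F) ^ e
    rw [← map_pow]
    exact (mem_fixF Sg).1 (pow_mem_fixF Sg (c : F)) _ ⟨α, hα, rfl⟩

/-- **`PSL₂(q)` in defining characteristic** -/
theorem row_psl {p : ℕ} [Fact p.Prime] (hp2 : p ≠ 2) [CharP F p] [IsSimpleGroup PSL₂] (A : Subgroup (MulAut PSL₂))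
    (hA : IsPGroup p A) (Q : Sylow p PSL₂) (hQ : ∀ x ∈ Q, MulAut.conj x ∈ A) :
    (∃ θ, Wt p PSL₂ A θ) ∨ ∀ g : PSL₂, ¬ p ∣ orderOf g → (∀ a ∈ A, MulAut.conj g * a * (MulAut.conj g)⁻¹ ∈ A) →
      g = 1 := by
  classical
  by_cases h : 6 ≤ Nat.card (fixF (A.map (fpart p)))
  · exact Or.inl (wt_large A h)
  have hp : p.Prime := Fact.out
  have hp3 : 3 ≤ p := by
    have := hp.two_le
    omega
  have hpo : Odd p := hp.odd_of_ne_two hp2
  obtain ⟨n, hn0, hn⟩ : ∃ n : ℕ, n ≠ 0 ∧ Nat.card F = p ^ n := by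
    have := Fintype.ofFinite F
    obtain ⟨n, -, hn⟩ := FiniteField.card F p
    exact ⟨n, n.ne_zero, by rw [Nat.card_eq_fintype_card, hn]⟩
  have hfin : Finite (F ≃+* F) := Finite.of_injective (fun σ : F ≃+* F => (σ : F → F)) DFunLike.coe_injective
  have hcard := card_fixF (A.map (fpart p))
  obtain ⟨m, hm⟩ := IsPGroup.iff_card.1 (hA.map (fpart p))
  have hodd : Odd (Nat.card (A.map (fpart p))) := by
    rw [hm]
    exact hpo.pow
  have h1 : 1 < Nat.card (fixF (A.map (fpart p))) := Finite.one_lt_card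
  obtain ⟨j, -, hj⟩ := (Nat.dvd_prime_pow hp).1 (show Nat.card (fixF (A.map (fpart p))) ∣ p ^ n by
    rw [← hn, hcard]
    exact dvd_pow_self _ Nat.card_pos.ne')
  have hj1 : j = 1 := by
    rcases j with _ | _ | j
    · rw [hj, pow_zero] at h1
      omega
    · rfl
    · exfalso
      apply h
      rw [hj]
      have h2 : p ^ 2 ≤ p ^ (j + 1 + 1) := Nat.pow_le_pow_right hp.pos (by omega)
      have h3 : 3 ^ 2 ≤ p ^ 2 := Nat.pow_le_pow_left hp3 2
      omega
  rw [hj1, pow_one] at hj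
  have hp35 : p = 3 ∨ p = 5 := by
    have h2 : p < 6 := by omega
    obtain ⟨t, ht⟩ := hpo
    omega
  rcases hp35 with h35 | h35
  · right
    intro g hg hgA
    have hj' : Nat.card (fixF (A.map (fpart p))) = 3 := hj.trans h35
    exact second hA Q hQ hj' (by rw [hcard, hj']; exact pow_mod_four hodd) hg hgA
  · left
    have hj' : Nat.card (fixF (A.map (fpart p))) = 5 := hj.trans h35
    exact disc_wt hp2 (by rw [hcard, hj']; exact pow_mod_three hodd) A

end main

/-- **S4891, defining characteristic, `PSL₂(K)`** -/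
theorem row_psl2 {p : ℕ} [Fact p.Prime] (hp2 : p ≠ 2) {K : Type} [Field K] [Fintype K] [CharP K p]
    (hK : 4 ≤ Fintype.card K) {X : Type} [Group X] [Finite X] [IsSimpleGroup X]
    (e : X ≃* Matrix.ProjectiveSpecialLinearGroup (Fin 2) K) : Row p X := by
  intro A hA ⟨Q, hQ⟩
  have hsimple : IsSimpleGroup (Matrix.ProjectiveSpecialLinearGroup (Fin 2) K) := by
    have : Nontrivial (Matrix.ProjectiveSpecialLinearGroup (Fin 2) K) := e.injective.nontrivial
    exact IsSimpleGroup.isSimpleGroup_of_surjective e.toMonoidHom e.surjective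
  have hna : ¬ IsMulCommutative X := by
    intro h
    obtain ⟨a, b, hab⟩ := noncomm (F := K)
    apply hab
    apply e.symm.injective
    rw [map_mul, map_mul]
    exact h.is_comm.comm _ _
  let f := MulAut.congr e
  let A' := A.map f.toMonoidHom
  let Q' : Sylow p (Matrix.ProjectiveSpecialLinearGroup (Fin 2) K) := Q.mapSurjective (f := e.toMonoidHom) e.surjective
  have hconj : ∀ x : X, f (MulAut.conj x) = MulAut.conj (e x) := by
    intro x
    ext y
    show e (x * e.symm y * x⁻¹) = e x * y * (e x)⁻¹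
    rw [map_mul, map_mul, map_inv, MulEquiv.apply_symm_apply]
  rcases row_psl hp2 A' (hA.map _) Q' (by
    intro x hx
    obtain ⟨y, hy, rfl⟩ : ∃ y ∈ Q, e y = x := hx
    exact ⟨_, hQ y hy, hconj y⟩) with ⟨θ, hθ⟩ | h
  · exact Or.inl ((Wt.of_equiv e hθ).rowA hp2 hna
      (Or.inl ⟨K, inferInstance, inferInstance, inferInstance, 2, le_rfl, fun _ => hK, ⟨e⟩⟩))
  · right
    intro g hg hgA
    have h1 := h (e g) (by rwa [MulEquiv.orderOf_eq]) (by
      rintro _ ⟨a, ha, rfl⟩
      refine ⟨_, hgA a ha, ?_⟩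
      show f (MulAut.conj g * a * (MulAut.conj g)⁻¹) = _
      rw [map_mul, map_mul, map_inv, hconj]
      rfl)
    exact e.injective (h1.trans (map_one e).symm)

end Cfsg.Agent.H936.RB
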